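import Mathlib

/-!
A non-abelian minimal normal subgroup of a finite group is generated by commuting, conjugate,
non-abelian simple subgroups (its factors); each factor comes with a coordinate projection.
-/

namespace Cfsg.Agent.Socle

open Subgroup

variable {G : Type*} [Group G]

/-- The conjugate `g T g⁻¹`. -/
abbrev conjSub (g : G) (T : Subgroup G) : Subgroup G := T.map (MulAut.conj g).toMonoidHom

theorem mem_conjSub {g x : G} {T : Subgroup G} : x ∈ conjSub g T ↔ g⁻¹ * x * g ∈ T := by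
  constructor
  · rintro ⟨t, ht, rfl⟩
    simpa [mul_assoc] using ht
  · intro h
    exact ⟨_, h, by simp [mul_assoc]⟩

theorem conj_mem_conjSub {g t : G} {T : Subgroup G} (h : t ∈ T) : g * t * g⁻¹ ∈ conjSub g T :=
  mem_conjSub.mpr (by simpa [mul_assoc] using h)

theorem conjSub_mul (g h : G) (T : Subgroup G) : conjSub g (conjSub h T) = conjSub (g * h) T := by
  ext x
  simp [mem_conjSub, mul_assoc]

theorem conjSub_one (T : Subgroup G) : conjSub 1 T = T := by ext x; simp [mem_conjSub]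

theorem conjSub_eq_self {g : G} {T : Subgroup G} (hg : g ∈ normalizer (T : Set G)) :
    conjSub g T = T := by
  ext x
  rw [mem_conjSub]
  have := (mem_normalizer_iff''.mp hg x).symm
  simpa using this

/-- `𝒯` is the set of simple factors of the normal subgroup `N`. -/
structure IsFactors (N : Subgroup G) (𝒯 : Set (Subgroup G)) : Prop where
  le : ∀ T ∈ 𝒯, T ≤ N
  simple : ∀ T ∈ 𝒯, IsSimpleGroup T
  nonabelian : ∀ T ∈ 𝒯, ¬ IsMulCommutative T
  comm : ∀ T ∈ 𝒯, ∀ S ∈ 𝒯, T ≠ S → ∀ t ∈ T, ∀ s ∈ S, t * s = s * t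
  conj_mem : ∀ T ∈ 𝒯, ∀ g : G, conjSub g T ∈ 𝒯
  exists_conj : ∀ T ∈ 𝒯, ∀ S ∈ 𝒯, ∃ g : G, conjSub g T = S
  sSup_eq : sSup 𝒯 = N
  nonempty : 𝒯.Nonempty
  eq_one : ∀ n ∈ N, (∀ T ∈ 𝒯, n ∈ centralizer (T : Set G)) → n = 1

/-- Existence of the factors. -/
theorem exists_factors [Finite G] (N : Subgroup G) [hN : N.Normal] (hne : N ≠ ⊥)
    (hmin : ∀ L : Subgroup G, L.Normal → L ≤ N → L = ⊥ ∨ L = N) (hnc : ¬ IsMulCommutative N) :
    ∃ 𝒯 : Set (Subgroup G), IsFactors N 𝒯 := by
  obtain ⟨T, ⟨hTN, hT0, hTn⟩, hTmin⟩ := (wellFounded_lt (α := Subgroup G)).has_min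
    {M : Subgroup G | M ≤ N ∧ M ≠ ⊥ ∧ N ≤ normalizer (M : Set G)}
    ⟨N, le_rfl, hne, le_normalizer⟩
  have hmin' : ∀ g : G, ∀ M : Subgroup G, M ≤ conjSub g T → N ≤ normalizer (M : Set G) →
      M = ⊥ ∨ M = conjSub g T := by
    intro g M hM hMn
    by_contra hcon
    rw [not_or] at hcon
    refine hTmin (conjSub g⁻¹ M) ⟨?_, ?_, ?_⟩ (lt_of_le_of_ne ?_ ?_)
    · intro x hx
      have := hM (mem_conjSub.mp hx)
      rw [mem_conjSub] at this
      exact hTN (by simpa [mul_assoc] using this)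
    · intro h
      exact hcon.1 ((map_eq_bot_iff_of_injective M (MulAut.conj g⁻¹).injective).mp h)
    · intro n hn
      rw [mem_normalizer_iff]
      intro x
      have h := mem_normalizer_iff.mp (hMn (hN.conj_mem n hn g)) (g * x * g⁻¹)
      simp only [mem_conjSub, inv_inv]
      simpa [mul_assoc] using h
    · intro x hx
      have := hM (mem_conjSub.mp hx)
      rw [mem_conjSub] at this
      simpa [mul_assoc] using this
    · intro h
      apply hcon.2
      rw [← h, conjSub_mul, mul_inv_cancel, conjSub_one]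
  have hle : ∀ g : G, conjSub g T ≤ N := by
    intro g x hx
    have := hN.conj_mem _ (hTN (mem_conjSub.mp hx)) g
    simpa [mul_assoc] using this
  have hnorm : ∀ g : G, N ≤ normalizer (conjSub g T : Set G) := by
    intro g n hn
    rw [mem_normalizer_iff]
    intro x
    have h := mem_normalizer_iff.mp (hTn (hN.conj_mem n hn g⁻¹)) (g⁻¹ * x * g)
    simp only [mem_conjSub]
    simpa [mul_assoc] using h
  let 𝒯 : Set (Subgroup G) := Set.range fun g : G => conjSub g T
  have hcomm : ∀ A ∈ 𝒯, ∀ B ∈ 𝒯, A ≠ B → ∀ a ∈ A, ∀ b ∈ B, a * b = b * a := by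
    rintro _ ⟨g, rfl⟩ _ ⟨k, rfl⟩ hAB a ha b hb
    have hn : N ≤ normalizer ((conjSub g T ⊓ conjSub k T : Subgroup G) : Set G) := fun n hn => by
      rw [mem_normalizer_iff]
      intro x
      simp only [mem_inf, mem_normalizer_iff.mp (hnorm g hn) x, mem_normalizer_iff.mp (hnorm k hn) x]
    have hbot : conjSub g T ⊓ conjSub k T = ⊥ := by
      rcases hmin' g _ inf_le_left hn with h | h
      · exact h
      · rcases hmin' k _ inf_le_right hn with h' | h'
        · exact h'
        · exact absurd (h.symm.trans h') hAB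
    have : a * b * a⁻¹ * b⁻¹ ∈ conjSub g T ⊓ conjSub k T := by
      refine ⟨?_, ?_⟩
      · have h := (mem_normalizer_iff.mp (hnorm g (hle k hb)) a⁻¹).mp (inv_mem ha)
        have h' := (conjSub g T).mul_mem ha h
        simpa [mul_assoc] using h'
      · have h := (mem_normalizer_iff.mp (hnorm k (hle g ha)) b).mp hb
        exact (conjSub k T).mul_mem h ((conjSub k T).inv_mem hb)
    rw [hbot, mem_bot] at this
    have h2 := mul_inv_eq_one.mp this
    exact mul_inv_eq_iff_eq_mul.mp h2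
  have hsup : sSup 𝒯 = N := by
    have hn : (sSup 𝒯).Normal := by
      refine ⟨fun x hx h => ?_⟩
      have : sSup 𝒯 ≤ (sSup 𝒯).comap (MulAut.conj h).toMonoidHom := by
        refine sSup_le ?_
        rintro _ ⟨g, rfl⟩ x hx
        exact le_sSup (show conjSub (h * g) T ∈ 𝒯 from ⟨_, rfl⟩)
          (mem_conjSub.mpr (by simpa [mul_assoc] using mem_conjSub.mp hx))
      simpa using this hx
    rcases hmin _ hn (sSup_le (by rintro _ ⟨g, rfl⟩; exact hle g)) with h | h
    · exact absurd (le_bot_iff.mp (h ▸ le_sSup ⟨1, conjSub_one T⟩ : T ≤ (⊥ : Subgroup G))) hT0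
    · exact h
  have hab : ∀ g : G, ¬ IsMulCommutative (conjSub g T) := by
    intro g hA
    have hAA : ∀ k, ∀ a ∈ conjSub k T, ∀ b ∈ conjSub k T, a * b = b * a := by
      intro k a ha b hb
      obtain ⟨a', ha', rfl⟩ := ha
      obtain ⟨b', hb', rfl⟩ := hb
      have h := congrArg Subtype.val (mul_comm' (⟨_, conj_mem_conjSub (g := g) ha'⟩ : conjSub g T)
        ⟨_, conj_mem_conjSub (g := g) hb'⟩)
      have h' : a' * b' = b' * a' := by
        apply (MulAut.conj g).injective
        rw [map_mul, map_mul]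
        exact h
      rw [← map_mul, h', map_mul]
    have hcen : N ≤ centralizer (N : Set G) := by
      rw [← hsup]
      refine sSup_le fun A hA' => ?_
      rw [le_centralizer_iff]
      refine sSup_le fun B hB' b hb => ?_
      rw [mem_centralizer_iff]
      intro a ha
      by_cases hAB : A = B
      · obtain ⟨k, rfl⟩ := hA'
        subst hAB
        exact hAA k a ha b hb
      · exact hcomm A hA' B hB' hAB a ha b hb
    exact hnc ⟨⟨fun u v => Subtype.ext (mem_centralizer_iff.mp (hcen v.2) u u.2)⟩⟩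
  have hsimple : ∀ g : G, IsSimpleGroup (conjSub g T) := by
    intro g
    have hA0 : conjSub g T ≠ ⊥ := fun h =>
      hT0 ((map_eq_bot_iff_of_injective T (MulAut.conj g).injective).mp h)
    haveI : Nontrivial (conjSub g T) := (nontrivial_iff_ne_bot _).mpr hA0
    refine IsSimpleGroup.mk fun M hM => ?_
    have hMle : M.map (conjSub g T).subtype ≤ conjSub g T := map_subtype_le M
    have hn : N ≤ normalizer ((M.map (conjSub g T).subtype : Subgroup G) : Set G) := by
      rw [← hsup]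
      refine sSup_le ?_
      rintro _ ⟨k, rfl⟩ b hb
      by_cases hgk : conjSub g T = conjSub k T
      · have hb' : b ∈ conjSub g T := hgk ▸ hb
        rw [mem_normalizer_iff]
        intro x
        constructor
        · rintro ⟨m, hm, rfl⟩
          exact ⟨_, hM.conj_mem m hm ⟨b, hb'⟩, rfl⟩
        · rintro ⟨m, hm, he⟩
          refine ⟨_, hM.conj_mem m hm (⟨b, hb'⟩⁻¹), ?_⟩
          simp only [subtype_apply] at he ⊢
          simp [he, mul_assoc]
      · refine (centralizer_le_normalizer _) (mem_centralizer_iff.mpr fun x hx => ?_)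
        exact hcomm _ ⟨g, rfl⟩ _ ⟨k, rfl⟩ hgk x (hMle hx) b hb
    rcases hmin' g _ hMle hn with h | h
    · exact Or.inl ((map_eq_bot_iff_of_injective M (conjSub g T).subtype_injective).mp h)
    · refine Or.inr (eq_top_iff.mpr fun x _ => ?_)
      obtain ⟨m, hm, he⟩ := h.ge x.2
      rwa [← Subtype.ext he]
  refine ⟨𝒯, ⟨?_, ?_, ?_, hcomm, ?_, ?_, hsup, ⟨T, 1, conjSub_one T⟩, ?_⟩⟩
  · rintro _ ⟨g, rfl⟩; exact hle g
  · rintro _ ⟨g, rfl⟩; exact hsimple g
  · rintro _ ⟨g, rfl⟩; exact hab g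
  · rintro _ ⟨g, rfl⟩ k; exact ⟨k * g, (conjSub_mul k g T).symm⟩
  · rintro _ ⟨g, rfl⟩ _ ⟨k, rfl⟩; exact ⟨k * g⁻¹, by simp [conjSub_mul]⟩
  · intro n hn h
    have hcn : n ∈ N ⊓ centralizer (N : Set G) := by
      refine ⟨hn, ?_⟩
      rw [← hsup]
      exact (le_centralizer_iff.mp (sSup_le fun A hA => le_centralizer_iff.mp
        (zpowers_le.mpr (h A hA)))) (mem_zpowers n)
    rcases hmin (N ⊓ centralizer (N : Set G)) inferInstance inf_le_left with h' | h'
    · rwa [h', mem_bot] at hcn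
    · exact absurd ⟨⟨fun u v => Subtype.ext (mem_centralizer_iff.mp (h'.ge v.2).2 u u.2)⟩⟩ hnc

namespace IsFactors

variable {N : Subgroup G} {𝒯 : Set (Subgroup G)} (hF : IsFactors N 𝒯)
include hF

theorem ne_bot {T : Subgroup G} (hT : T ∈ 𝒯) : T ≠ ⊥ :=
  haveI := hF.simple T hT
  (nontrivial_iff_ne_bot T).mp inferInstance

theorem eq_bot_or_eq {T : Subgroup G} (hT : T ∈ 𝒯) {L : Subgroup G} (hL : L ≤ T)
    (hn : T ≤ normalizer (L : Set G)) : L = ⊥ ∨ L = T := by
  haveI := hF.simple T hT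
  rcases (normal_subgroupOf_of_le_normalizer hn : (L.subgroupOf T).Normal).eq_bot_or_eq_top with h | h
  · rw [subgroupOf_eq_bot] at h
    exact Or.inl (by simpa [inf_eq_left.mpr hL] using h.eq_bot)
  · exact Or.inr (le_antisymm hL (subgroupOf_eq_top.mp h))

theorem inf_centralizer {T : Subgroup G} (hT : T ∈ 𝒯) : T ⊓ centralizer (T : Set G) = ⊥ := by
  have hn : T ≤ normalizer ((T ⊓ centralizer (T : Set G) : Subgroup G) : Set G) := by
    intro t ht
    rw [mem_normalizer_iff]
    intro x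
    constructor
    · rintro ⟨hx1, hx2⟩
      have : t * x * t⁻¹ = x := by
        rw [mem_centralizer_iff.mp hx2 t ht, mul_inv_cancel_right]
      rw [this]; exact ⟨hx1, hx2⟩
    · rintro ⟨hx1, hx2⟩
      have : t * x * t⁻¹ = x := by
        have := mem_centralizer_iff.mp hx2 t⁻¹ (inv_mem ht)
        have h2 : x * t⁻¹ = t⁻¹ * (t * x * t⁻¹) := by group
        rw [this] at h2
        exact (mul_right_cancel h2).symm
      rw [this] at hx1 hx2
      exact ⟨hx1, hx2⟩
  rcases hF.eq_bot_or_eq hT (L := T ⊓ centralizer (T : Set G)) inf_le_left hn with h | h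
  · exact h
  · exact absurd ⟨⟨fun u v => Subtype.ext (mem_centralizer_iff.mp (h.ge v.2).2 u u.2)⟩⟩
      (hF.nonabelian T hT)

theorem mem_centralizer_of_ne {T S : Subgroup G} (hT : T ∈ 𝒯) (hS : S ∈ 𝒯) (h : T ≠ S) {s : G}
    (hs : s ∈ S) : s ∈ centralizer (T : Set G) :=
  mem_centralizer_iff.mpr fun t ht => hF.comm T hT S hS h t ht s hs

theorem exists_decomp {T : Subgroup G} (hT : T ∈ 𝒯) {n : G} (hn : n ∈ N) :
    ∃ t ∈ T, t⁻¹ * n ∈ centralizer (T : Set G) := by
  let K : Subgroup G :=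
    { carrier := {g | ∃ t ∈ T, t⁻¹ * g ∈ centralizer (T : Set G)}
      one_mem' := ⟨1, T.one_mem, by simp⟩
      mul_mem' := by
        rintro a b ⟨t, ht, hc⟩ ⟨u, hu, hd⟩
        refine ⟨t * u, T.mul_mem ht hu, ?_⟩
        have : (t * u)⁻¹ * (a * b) = (t⁻¹ * a) * (u⁻¹ * b) := by
          have h1 := mem_centralizer_iff.mp hc u⁻¹ (inv_mem hu)
          calc (t * u)⁻¹ * (a * b) = u⁻¹ * (t⁻¹ * a) * b := by group
            _ = (t⁻¹ * a) * u⁻¹ * b := by rw [h1]
            _ = _ := by group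
        rw [this]; exact mul_mem hc hd
      inv_mem' := by
        rintro a ⟨t, ht, hc⟩
        refine ⟨t⁻¹, T.inv_mem ht, ?_⟩
        have h1 := mem_centralizer_iff.mp (inv_mem hc) t ht
        have : t⁻¹⁻¹ * a⁻¹ = (t⁻¹ * a)⁻¹ := by
          rw [inv_inv]
          calc t * a⁻¹ = t * (t⁻¹ * a)⁻¹ * t⁻¹ := by group
            _ = (t⁻¹ * a)⁻¹ * t * t⁻¹ := by rw [h1]
            _ = _ := by group
        rw [this]; exact inv_mem hc }
  have : N ≤ K := hF.sSup_eq ▸ sSup_le fun S hS s hs => by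
    by_cases h : T = S
    · exact ⟨s, h ▸ hs, by simp⟩
    · exact ⟨1, T.one_mem, by simpa using hF.mem_centralizer_of_ne hT hS h hs⟩
  exact this hn

theorem decomp_unique {T : Subgroup G} (hT : T ∈ 𝒯) {n t u : G} (ht : t ∈ T)
    (ht' : t⁻¹ * n ∈ centralizer (T : Set G)) (hu : u ∈ T)
    (hu' : u⁻¹ * n ∈ centralizer (T : Set G)) : t = u := by
  have h : t⁻¹ * u ∈ T ⊓ centralizer (T : Set G) := by
    refine ⟨T.mul_mem (T.inv_mem ht) hu, ?_⟩
    have := mul_mem ht' (inv_mem hu')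
    simpa [mul_assoc] using this
  rwa [hF.inf_centralizer hT, mem_bot, inv_mul_eq_one] at h

/-- The coordinate of `n` in the factor `T`. -/
noncomputable def coord {T : Subgroup G} (hT : T ∈ 𝒯) : N →* G where
  toFun n := (hF.exists_decomp hT n.2).choose
  map_one' := hF.decomp_unique hT (hF.exists_decomp hT (1 : N).2).choose_spec.1
    (hF.exists_decomp hT (1 : N).2).choose_spec.2 T.one_mem (by simp)
  map_mul' a b := by
    have ha := (hF.exists_decomp hT a.2).choose_spec
    have hb := (hF.exists_decomp hT b.2).choose_spec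
    refine hF.decomp_unique hT (hF.exists_decomp hT (a * b).2).choose_spec.1
      (hF.exists_decomp hT (a * b).2).choose_spec.2 (T.mul_mem ha.1 hb.1) ?_
    generalize (hF.exists_decomp hT a.2).choose = t at *
    generalize (hF.exists_decomp hT b.2).choose = u at *
    have h1 := mem_centralizer_iff.mp ha.2 u⁻¹ (inv_mem hb.1)
    have : (t * u)⁻¹ * ((a * b : N) : G) = (t⁻¹ * a) * (u⁻¹ * b) := by
      calc (t * u)⁻¹ * ((a * b : N) : G) = u⁻¹ * (t⁻¹ * a) * b := by
            rw [Subgroup.coe_mul]; group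
        _ = (t⁻¹ * a) * u⁻¹ * b := by rw [h1]
        _ = _ := by group
    rw [this]; exact mul_mem ha.2 hb.2

theorem coord_mem {T : Subgroup G} (hT : T ∈ 𝒯) (n : N) : hF.coord hT n ∈ T :=
  (hF.exists_decomp hT n.2).choose_spec.1

theorem coord_spec {T : Subgroup G} (hT : T ∈ 𝒯) (n : N) :
    (hF.coord hT n)⁻¹ * n ∈ centralizer (T : Set G) :=
  (hF.exists_decomp hT n.2).choose_spec.2

theorem coord_eq {T : Subgroup G} (hT : T ∈ 𝒯) {n : N} {t : G} (ht : t ∈ T)
    (h : t⁻¹ * n ∈ centralizer (T : Set G)) : hF.coord hT n = t :=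
  hF.decomp_unique hT (hF.coord_mem hT n) (hF.coord_spec hT n) ht h

theorem coord_self {T : Subgroup G} (hT : T ∈ 𝒯) {n : N} (hn : (n : G) ∈ T) :
    hF.coord hT n = n :=
  hF.coord_eq hT hn (by simp)

theorem coord_of_ne {T S : Subgroup G} (hT : T ∈ 𝒯) (hS : S ∈ 𝒯) (h : T ≠ S) {n : N}
    (hn : (n : G) ∈ S) : hF.coord hT n = 1 :=
  hF.coord_eq hT T.one_mem (by simpa using hF.mem_centralizer_of_ne hT hS h hn)

theorem coord_ext {m n : N} (h : ∀ T (hT : T ∈ 𝒯), hF.coord hT m = hF.coord hT n) : m = n := by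
  have : ((m⁻¹ * n : N) : G) = 1 := hF.eq_one _ (m⁻¹ * n).2 fun T hT => by
    have := hF.coord_spec hT (m⁻¹ * n)
    rwa [map_mul, map_inv, h T hT, inv_mul_cancel, inv_one, one_mul] at this
  exact inv_mul_eq_one.mp (Subtype.ext this)

theorem coord_conj [hN : N.Normal] {T : Subgroup G} (hT : T ∈ 𝒯) (g : G) (n : N) :
    hF.coord (hF.conj_mem T hT g) ⟨g * n * g⁻¹, hN.conj_mem n n.2 g⟩ =
      g * hF.coord hT n * g⁻¹ := by
  refine hF.coord_eq _ (conj_mem_conjSub (hF.coord_mem hT n)) ?_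
  rw [mem_centralizer_iff]
  rintro _ ⟨t, ht, rfl⟩
  have h := mem_centralizer_iff.mp (hF.coord_spec hT n) t ht
  simp only [MulEquiv.coe_toMonoidHom, MulAut.conj_apply]
  calc g * t * g⁻¹ * ((g * hF.coord hT n * g⁻¹)⁻¹ * (g * n * g⁻¹))
      = g * (t * ((hF.coord hT n)⁻¹ * n)) * g⁻¹ := by group
    _ = g * ((hF.coord hT n)⁻¹ * n * t) * g⁻¹ := by rw [h]
    _ = _ := by group

theorem coord_congr {T S : Subgroup G} (hT : T ∈ 𝒯) (hS : S ∈ 𝒯) (h : T = S) (n : N) :
    hF.coord hT n = hF.coord hS n := by subst h; rfl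

theorem conjSub_eq_of_mem {T : Subgroup G} (hT : T ∈ 𝒯) {n : G} (hn : n ∈ N) :
    conjSub n T = T := by
  refine conjSub_eq_self ((show N ≤ normalizer (T : Set G) from hF.sSup_eq ▸ ?_) hn)
  refine sSup_le fun S hS => ?_
  by_cases h : T = S
  · subst h; exact le_normalizer
  · exact fun s hs => (centralizer_le_normalizer _) (hF.mem_centralizer_of_ne hT hS h hs)

end IsFactors

end Cfsg.Agent.Socle
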