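import Cfsg.Agent.Lib.Socle.Factors
import Cfsg.Agent.Lib.Perm.Basic
import Cfsg.Agent.Lib.Perm.Derangement

/-!
The O'Nan–Scott dichotomy for a non-abelian minimal normal subgroup `N` of a finite primitive
group: either every non-trivial element of a factor is a derangement, or the fixed-point-free
elements of `N` are read off from the coordinates.
-/

namespace Cfsg.Agent.Socle

open Subgroup MulAction

variable {G : Type*} [Group G] {α : Type*} [MulAction G α] {N : Subgroup G}
  {𝒯 : Set (Subgroup G)}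

/-- `x` fixes no point. -/
def IsDerangement (α : Type*) [MulAction G α] (x : G) : Prop := ∀ a : α, x • a ≠ a

theorem IsDerangement.conj {x : G} (h : IsDerangement α x) (g : G) :
    IsDerangement α (g * x * g⁻¹) := fun a ha => h (g⁻¹ • a) (by
      rw [mul_smul, mul_smul] at ha
      rw [eq_inv_smul_iff]; exact ha)

theorem isDerangement_conj_iff {x g : G} :
    IsDerangement α (g * x * g⁻¹) ↔ IsDerangement α x :=
  ⟨fun h => by simpa [mul_assoc] using h.conj g⁻¹, fun h => h.conj g⟩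

/-- The projection of the stabiliser of `a` in `N` to the factor `T`. -/
noncomputable def projStab (hF : IsFactors N 𝒯) (a : α) {T : Subgroup G} (hT : T ∈ 𝒯) :
    Subgroup G :=
  ((stabilizer G a).comap N.subtype).map (hF.coord hT)

theorem mem_projStab (hF : IsFactors N 𝒯) {a : α} {T : Subgroup G} (hT : T ∈ 𝒯) {x : G} :
    x ∈ projStab hF a hT ↔ ∃ n : N, (n : G) • a = a ∧ hF.coord hT n = x := Iff.rfl

theorem projStab_le (hF : IsFactors N 𝒯) (a : α) {T : Subgroup G} (hT : T ∈ 𝒯) :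
    projStab hF a hT ≤ T := by
  rintro _ ⟨n, -, rfl⟩; exact hF.coord_mem hT n

/-- Elements with prescribed coordinates exist. -/
theorem exists_coord_eq (hF : IsFactors N 𝒯) [Finite G] (f : ∀ T ∈ 𝒯, G)
    (hf : ∀ T (hT : T ∈ 𝒯), f T hT ∈ T) : ∃ n : N, ∀ T (hT : T ∈ 𝒯), hF.coord hT n = f T hT := by
  classical
  haveI : Fintype (Subgroup G) := Fintype.ofFinite _
  suffices H : ∀ s : Finset (Subgroup G), ∃ n : N, ∀ T (hT : T ∈ 𝒯),
      hF.coord hT n = if T ∈ s then f T hT else 1 by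
    obtain ⟨n, hn⟩ := H Finset.univ
    exact ⟨n, fun T hT => by simpa using hn T hT⟩
  intro s
  induction s using Finset.induction_on with
  | empty => exact ⟨1, fun T hT => by simp⟩
  | insert S s hS ih =>
    obtain ⟨n, hn⟩ := ih
    by_cases hS' : S ∈ 𝒯
    · refine ⟨⟨f S hS', hF.le S hS' (hf S hS')⟩ * n, fun T hT => ?_⟩
      rw [map_mul, hn T hT]
      by_cases hTS : T = S
      · subst hTS
        rw [hF.coord_self hT (hf T hS'), if_neg hS, mul_one, if_pos (Finset.mem_insert_self _ _)]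
      · rw [hF.coord_of_ne hT hS' hTS (hf S hS'), one_mul]
        simp [Finset.mem_insert, hTS]
    · refine ⟨n, fun T hT => ?_⟩
      have : T ≠ S := fun h => hS' (h ▸ hT)
      rw [hn T hT]
      simp [Finset.mem_insert, this]

/-- A proper subgroup misses some conjugacy class. -/
theorem exists_forall_conj_not_mem {K : Type*} [Group K] [Finite K] {R : Subgroup K} (hR : R ≠ ⊤) :
    ∃ x : K, ∀ m : K, m * x * m⁻¹ ∉ R := by
  by_contra hcon
  push Not at hcon
  have hno : ∀ x : K, ∃ q : K ⧸ R, x • q = q := by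
    intro x
    obtain ⟨m, hm⟩ := hcon x
    refine ⟨QuotientGroup.mk m⁻¹, ?_⟩
    rw [MulAction.Quotient.smul_mk, QuotientGroup.eq]
    have := R.inv_mem hm
    simpa [mul_assoc] using this
  have h := Perm.Derangement.isPretransitive_derSub (G := K) (Ω := K ⧸ R) inferInstance
  have hbot : Perm.Derangement.derSub K (K ⧸ R) = ⊥ := by
    rw [Subgroup.closure_eq_bot_iff]
    intro g hg
    obtain ⟨q, hq⟩ := hno g
    exact absurd hq (hg q)
  apply hR
  rw [eq_top_iff]
  intro x _
  obtain ⟨⟨d, hd⟩, hdq⟩ := h.exists_smul_eq (QuotientGroup.mk 1) (QuotientGroup.mk x)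
  rw [hbot, Subgroup.mem_bot] at hd
  subst hd
  have : (QuotientGroup.mk 1 : K ⧸ R) = QuotientGroup.mk x := by simpa [Subgroup.smul_def] using hdq
  simpa using QuotientGroup.eq.mp this

variable [Finite G] [FaithfulSMul G α] [IsPreprimitive G α] [hN : N.Normal]

theorem transitive_of_factors (hF : IsFactors N 𝒯) : IsPretransitive N α := by
  obtain ⟨T, hT⟩ := hF.nonempty
  exact Perm.isPretransitive_of_normal fun h => hF.ne_bot hT (le_bot_iff.mp (h ▸ hF.le T hT))

/-- The stabiliser of `a` permutes the factors transitively. -/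
theorem exists_stabilizer_conj (hF : IsFactors N 𝒯) (a : α) {T S : Subgroup G} (hT : T ∈ 𝒯)
    (hS : S ∈ 𝒯) : ∃ h : G, h • a = a ∧ conjSub h T = S := by
  obtain ⟨g, hg⟩ := hF.exists_conj T hT S hS
  obtain ⟨n, hn, hna⟩ := Perm.isPretransitive_subgroup_iff.1 (transitive_of_factors hF) a (g • a)
  refine ⟨n⁻¹ * g, by rw [mul_smul, inv_smul_eq_iff, hna], ?_⟩
  rw [← conjSub_mul, hg, hF.conjSub_eq_of_mem hS (N.inv_mem hn)]

theorem conjSub_projStab_le (hF : IsFactors N 𝒯) (a : α) {T S : Subgroup G} (hT : T ∈ 𝒯)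
    (hS : S ∈ 𝒯) {h : G} (ha : h • a = a) (he : conjSub h T = S) :
    conjSub h (projStab hF a hT) ≤ projStab hF a hS := by
  subst he
  intro x hx
  obtain ⟨n, hn, hnx⟩ := mem_conjSub.mp hx
  refine ⟨⟨h * n * h⁻¹, hN.conj_mem n n.2 h⟩, ?_, ?_⟩
  · show (h * (n : G) * h⁻¹) • a = a
    have hn' : (n : G) • a = a := hn
    rw [mul_smul, mul_smul, inv_smul_eq_iff.mpr ha.symm, hn', ha]
  · rw [hF.coord_conj hT h n, hnx]; group

omit [Finite G] in
theorem fixes_of_coords (hF : IsFactors N 𝒯) {a : α} {n : N}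
    (hP : ∀ n : N, (∀ T (hT : T ∈ 𝒯), hF.coord hT n ∈ projStab hF a hT) → (n : G) • a = a)
    (hn : (n : G) • a = a) {T : Subgroup G} (hT : T ∈ 𝒯) : hF.coord hT n • a = a := by
  refine hP ⟨_, hF.le T hT (hF.coord_mem hT n)⟩ fun S hS => ?_
  by_cases hST : S = T
  · subst hST
    rw [hF.coord_self hS (hF.coord_mem hS n)]
    exact ⟨n, hn, rfl⟩
  · rw [hF.coord_of_ne hS hT hST (hF.coord_mem hT n)]; exact one_mem _

/-- If the projections are proper, elements with all coordinates in them fix `a`. -/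
theorem coords_fix (hF : IsFactors N 𝒯) {a : α}
    (hprop : ∀ T (hT : T ∈ 𝒯), projStab hF a hT ≠ T) (n : N)
    (hn : ∀ T (hT : T ∈ 𝒯), hF.coord hT n ∈ projStab hF a hT) : (n : G) • a = a := by
  obtain ⟨T₀, hT₀⟩ := hF.nonempty
  let P : Subgroup G :=
    { carrier := {x | ∃ h : x ∈ N, ∀ T (hT : T ∈ 𝒯), hF.coord hT ⟨x, h⟩ ∈ projStab hF a hT}
      one_mem' := ⟨N.one_mem, fun T hT => by
        rw [show (⟨1, N.one_mem⟩ : N) = 1 from rfl, map_one]; exact one_mem _⟩
      mul_mem' := fun {x y} ⟨hx, hx'⟩ ⟨hy, hy'⟩ => ⟨N.mul_mem hx hy, fun T hT => by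
        rw [show (⟨x * y, N.mul_mem hx hy⟩ : N) = ⟨x, hx⟩ * ⟨y, hy⟩ from rfl, map_mul]
        exact mul_mem (hx' T hT) (hy' T hT)⟩
      inv_mem' := fun {x} ⟨hx, hx'⟩ => ⟨N.inv_mem hx, fun T hT => by
        rw [show (⟨x⁻¹, N.inv_mem hx⟩ : N) = ⟨x, hx⟩⁻¹ from rfl, map_inv]
        exact inv_mem (hx' T hT)⟩ }
  have hPn : ∀ h ∈ stabilizer G a, ∀ x ∈ P, h * x * h⁻¹ ∈ P := by
    rintro h ha x ⟨hx, hx'⟩
    refine ⟨hN.conj_mem x hx h, fun T hT => ?_⟩
    have hT' : conjSub h⁻¹ T ∈ 𝒯 := hF.conj_mem T hT _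
    have he : conjSub h (conjSub h⁻¹ T) = T := by rw [conjSub_mul, mul_inv_cancel, conjSub_one]
    have h1 := hF.coord_conj hT' h ⟨x, hx⟩
    rw [hF.coord_congr (hF.conj_mem _ hT' h) hT he] at h1
    show hF.coord hT ⟨h * x * h⁻¹, _⟩ ∈ _
    rw [h1]
    exact conjSub_projStab_le hF a hT' hT ha he (conj_mem_conjSub (hx' _ hT'))
  have hPH : P ≤ stabilizer G a := by
    rcases subsingleton_or_nontrivial α with hα | hα
    · exact fun x _ => Subsingleton.elim _ _
    have hcoatom : IsCoatom (stabilizer G a) := IsPreprimitive.isCoatom_stabilizer_of_isPreprimitive G a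
    have hnorm : stabilizer G a ≤ normalizer (P : Set G) := by
      intro h ha
      rw [mem_normalizer_iff]
      intro x
      refine ⟨hPn h ha x, fun hx => ?_⟩
      have := hPn h⁻¹ ((stabilizer G a).inv_mem ha) _ hx
      simpa [mul_assoc] using this
    rcases eq_or_lt_of_le (le_sup_left : stabilizer G a ≤ stabilizer G a ⊔ P) with h | h
    · exact le_sup_right.trans h.ge
    exfalso
    have htop := hcoatom.2 _ h
    have hT0 : T₀ ≤ projStab hF a hT₀ := by
      intro t ht
      have htm : t ∈ stabilizer G a ⊔ P := htop ▸ Subgroup.mem_top t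
      rw [← SetLike.mem_coe, Subgroup.coe_mul_of_left_le_normalizer_right _ _ hnorm] at htm
      obtain ⟨s, hs, p, ⟨hp, hp'⟩, hsp⟩ := htm
      have hsN : s ∈ N := by
        have : s = t * p⁻¹ := by rw [← hsp]; simp
        rw [this]; exact N.mul_mem (hF.le _ hT₀ ht) (N.inv_mem hp)
      have : (⟨t, hF.le _ hT₀ ht⟩ : N) = ⟨s, hsN⟩ * ⟨p, hp⟩ := Subtype.ext hsp.symm
      have h2 := congrArg (hF.coord hT₀) this
      rw [hF.coord_self hT₀ ht, map_mul] at h2
      change t = _ at h2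
      rw [h2]
      exact mul_mem ⟨⟨s, hsN⟩, hs, rfl⟩ (hp' _ hT₀)
    exact hprop _ hT₀ (le_antisymm (projStab_le hF a hT₀) hT0)
  exact hPH ⟨n.2, hn⟩

/-- The dichotomy. -/
theorem dichotomy (hF : IsFactors N 𝒯) [Nonempty α] :
    (∀ T ∈ 𝒯, ∀ t ∈ T, t ≠ 1 → IsDerangement α t) ∨
    ((∀ T ∈ 𝒯, (∃ t ∈ T, IsDerangement α t) ∧ ∃ r ∈ T, r ≠ 1 ∧ ¬ IsDerangement α r) ∧
      ∀ (n : N) T (hT : T ∈ 𝒯) (b : α), (n : G) • b = b → hF.coord hT n • b = b) := by
  obtain ⟨a⟩ := ‹Nonempty α›
  have htr := transitive_of_factors (α := α) hF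
  obtain ⟨T₀, hT₀⟩ := hF.nonempty
  by_cases hfull : projStab hF a hT₀ = T₀
  · left
    intro T hT t ht ht1 b hb
    have hfullT : projStab hF a hT = T := by
      obtain ⟨h, ha, he⟩ := exists_stabilizer_conj hF a hT₀ hT
      refine le_antisymm (projStab_le hF a hT) ?_
      calc T = conjSub h (projStab hF a hT₀) := by rw [hfull, he]
        _ ≤ _ := conjSub_projStab_le hF a hT₀ hT ha he
    obtain ⟨m, hm, hmb⟩ := Perm.isPretransitive_subgroup_iff.1 htr b a
    have htT : m * t * m⁻¹ ∈ T := by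
      rw [← hF.conjSub_eq_of_mem hT hm]; exact conj_mem_conjSub ht
    have hta : (m * t * m⁻¹) • a = a := by
      rw [← hmb, mul_smul, mul_smul, inv_smul_smul, hb]
    let D : Subgroup G := T ⊓ stabilizer G a
    have key : ∀ n : N, (n : G) • a = a → ∀ d ∈ D,
        hF.coord hT n * d * (hF.coord hT n)⁻¹ ∈ D := by
      intro n hn d hd
      have hc := hF.coord_mem hT n
      refine ⟨T.mul_mem (T.mul_mem hc hd.1) (T.inv_mem hc), ?_⟩
      have h := mem_centralizer_iff.mp (hF.coord_spec hT n) d hd.1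
      have e : hF.coord hT n * d * (hF.coord hT n)⁻¹ = (n : G) * d * (n : G)⁻¹ := by
        generalize hF.coord hT n = c at h
        calc c * d * c⁻¹ = c * (d * (c⁻¹ * n)) * (n : G)⁻¹ := by group
          _ = c * (c⁻¹ * n * d) * (n : G)⁻¹ := by rw [h]
          _ = _ := by group
      show _ • a = a
      rw [e, mul_smul, mul_smul, inv_smul_eq_iff.mpr hn.symm,
        show d • a = a from hd.2, hn]
    have hDn : T ≤ normalizer (D : Set G) := by
      intro u hu
      rw [← hfullT] at hu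
      obtain ⟨n, hn, rfl⟩ := hu
      have hn' : (n : G) • a = a := hn
      rw [mem_normalizer_iff]
      intro x
      refine ⟨fun hx => key n hn' x hx, fun hx => ?_⟩
      have hn'' : ((n⁻¹ : N) : G) • a = a := by
        rw [Subgroup.coe_inv, inv_smul_eq_iff, hn']
      have := key n⁻¹ hn'' _ hx
      rw [map_inv] at this
      simpa [mul_assoc] using this
    rcases hF.eq_bot_or_eq hT (L := D) inf_le_left hDn with h | h
    · have : m * t * m⁻¹ ∈ D := ⟨htT, hta⟩
      rw [h, Subgroup.mem_bot] at this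
      exact ht1 (by simpa [mul_inv_eq_one] using this)
    · -- every factor would fix `a`, so `N` would
      have hall : N ≤ stabilizer G a := by
        rw [← hF.sSup_eq]
        refine sSup_le fun S hS => ?_
        obtain ⟨g, hga, hg⟩ := exists_stabilizer_conj hF a hT hS
        rw [← hg]
        intro x hx
        have hx' : g⁻¹ * x * g ∈ D := h.ge (mem_conjSub.mp hx)
        have h3 := mem_stabilizer_iff.mp hx'.2
        rw [mul_smul, mul_smul, hga, inv_smul_eq_iff, hga] at h3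
        exact h3
      obtain ⟨⟨t', ht'⟩, ht'1⟩ := Subgroup.ne_bot_iff_exists_ne_one.mp (hF.ne_bot hT)
      refine ht'1 (Subtype.ext (Perm.eq_one_of_forall_smul_eq (α := α) fun c => ?_))
      exact Perm.smul_eq_of_normal_fixes (N := N) (a := a) (fun n hn => hall hn) (hF.le T hT ht') c
  · have hprop : ∀ T (hT : T ∈ 𝒯), projStab hF a hT ≠ T := by
      intro T hT h
      obtain ⟨g, ha, he⟩ := exists_stabilizer_conj hF a hT hT₀
      refine hfull (le_antisymm (projStab_le hF a hT₀) ?_)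
      calc T₀ = conjSub g (projStab hF a hT) := by rw [h, he]
        _ ≤ _ := conjSub_projStab_le hF a hT hT₀ ha he
    have hP : ∀ n : N, (∀ T (hT : T ∈ 𝒯), hF.coord hT n ∈ projStab hF a hT) → (n : G) • a = a :=
      coords_fix hF hprop
    have hfix : ∀ (n : N) T (hT : T ∈ 𝒯) (b : α), (n : G) • b = b → hF.coord hT n • b = b := by
      intro n T hT b hb
      obtain ⟨m, hm, hmb⟩ := Perm.isPretransitive_subgroup_iff.1 htr b a
      have hna : ((⟨m, hm⟩ * n * ⟨m, hm⟩⁻¹ : N) : G) • a = a := by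
        show (m * (n : G) * m⁻¹) • a = a
        rw [← hmb, mul_smul, mul_smul, inv_smul_smul, hb]
      have h := fixes_of_coords hF hP hna hT
      rw [map_mul, map_mul, map_inv] at h
      have hm' := hF.coord_spec hT ⟨m, hm⟩
      have hc := mem_centralizer_iff.mp hm' _ (hF.coord_mem hT n)
      set c := hF.coord hT ⟨m, hm⟩
      set d := hF.coord hT n
      have : c * d * c⁻¹ = m * d * m⁻¹ := by
        calc c * d * c⁻¹ = c * (d * (c⁻¹ * m)) * m⁻¹ := by group
          _ = c * (c⁻¹ * m * d) * m⁻¹ := by rw [hc]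
          _ = _ := by group
      rw [this, ← hmb, mul_smul, mul_smul, inv_smul_smul, smul_left_cancel_iff] at h
      exact h
    by_cases hbot : projStab hF a hT₀ = ⊥
    · left
      intro T hT t ht ht1 b hb
      obtain ⟨m, hm, hmb⟩ := Perm.isPretransitive_subgroup_iff.1 htr b a
      have htT : m * t * m⁻¹ ∈ T := by
        rw [← hF.conjSub_eq_of_mem hT hm]; exact conj_mem_conjSub ht
      obtain ⟨g, ha, he⟩ := exists_stabilizer_conj hF a hT hT₀
      have hmem : m * t * m⁻¹ ∈ projStab hF a hT :=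
        ⟨⟨_, hF.le T hT htT⟩, by
          show (m * t * m⁻¹) • a = a
          rw [← hmb, mul_smul, mul_smul, inv_smul_smul, hb], hF.coord_self hT htT⟩
      have := conjSub_projStab_le hF a hT hT₀ ha he (conj_mem_conjSub hmem)
      rw [hbot, Subgroup.mem_bot] at this
      rw [conj_eq_one_iff, conj_eq_one_iff] at this
      exact ht1 this
    right
    refine ⟨fun T hT => ⟨?_, ?_⟩, hfix⟩
    · have hR : (projStab hF a hT).subgroupOf T ≠ ⊤ := fun h =>
        hprop T hT (le_antisymm (projStab_le hF a hT) (subgroupOf_eq_top.mp h))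
      obtain ⟨⟨t, ht⟩, hx⟩ := exists_forall_conj_not_mem hR
      refine ⟨t, ht, fun b hb => ?_⟩
      obtain ⟨m, hm, hmb⟩ := Perm.isPretransitive_subgroup_iff.1 htr b a
      have hta : ((⟨m, hm⟩ * ⟨t, hF.le T hT ht⟩ * ⟨m, hm⟩⁻¹ : N) : G) • a = a := by
        show (m * t * m⁻¹) • a = a
        rw [← hmb, mul_smul, mul_smul, inv_smul_smul, hb]
      refine hx ⟨hF.coord hT ⟨m, hm⟩, hF.coord_mem hT _⟩ ?_
      rw [mem_subgroupOf]
      refine ⟨⟨m, hm⟩ * ⟨t, hF.le T hT ht⟩ * ⟨m, hm⟩⁻¹, hta, ?_⟩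
      have e := hF.coord_self hT (n := ⟨t, hF.le T hT ht⟩) ht
      rw [map_mul, map_mul, map_inv, e]
      rfl
    · obtain ⟨⟨r, hr⟩, hr1⟩ := Subgroup.ne_bot_iff_exists_ne_one.mp hbot
      obtain ⟨g, ha, he⟩ := exists_stabilizer_conj hF a hT₀ hT
      have hrR := conjSub_projStab_le hF a hT₀ hT ha he (conj_mem_conjSub hr)
      have hrT := projStab_le hF a hT hrR
      refine ⟨_, hrT, fun h => hr1 (Subtype.ext (conj_eq_one_iff.mp h)), fun hd => hd a ?_⟩
      obtain ⟨n, hn, hne⟩ := hrR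
      rw [← hne]
      exact fixes_of_coords hF hP hn hT

end Cfsg.Agent.Socle
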