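import Cfsg.Agent.Lib.Socle.Primitive
import Cfsg.Agent.Lib.Perm.RegularNormal

/-!
Conjugacy classes of derangements in finite primitive groups that are not almost simple.
-/

namespace Cfsg.Agent.Socle

open Subgroup MulAction

variable {G : Type*} [Group G] {α : Type*} [MulAction G α]

/-- The conjugacy classes of derangements. -/
abbrev DerClasses (G α : Type*) [Group G] [MulAction G α] : Type _ :=
  {c : ConjClasses G // ∃ g : G, ConjClasses.mk g = c ∧ ∀ ω : α, g • ω ≠ ω}

theorem isDerangement_of_pow {x : G} {k : ℕ} (h : IsDerangement α (x ^ k)) : IsDerangement α x := by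
  intro a ha
  refine h a ?_
  clear h
  induction k with
  | zero => simp
  | succ k ih => rw [pow_succ, mul_smul, ha, ih]

theorem three_le_card [Finite G] {x y z : G} (hx : IsDerangement α x) (hy : IsDerangement α y)
    (hz : IsDerangement α z) (hxy : ¬ IsConj x y) (hxz : ¬ IsConj x z) (hyz : ¬ IsConj y z) :
    3 ≤ Nat.card (DerClasses G α) := by
  haveI : Finite (DerClasses G α) := Subtype.finite
  have hinj : Function.Injective (![⟨_, x, rfl, hx⟩, ⟨_, y, rfl, hy⟩, ⟨_, z, rfl, hz⟩] :
      Fin 3 → DerClasses G α) := by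
    intro i j hij
    have key : ∀ {u v : G}, ConjClasses.mk u = ConjClasses.mk v → IsConj u v :=
      fun h => ConjClasses.mk_eq_mk_iff_isConj.mp h
    fin_cases i <;> fin_cases j <;> first
      | rfl
      | exact absurd (key (congrArg Subtype.val hij)) hxy
      | exact absurd (key (congrArg Subtype.val hij)) hxz
      | exact absurd (key (congrArg Subtype.val hij)) hyz
      | exact absurd (key (congrArg Subtype.val hij)).symm hxy
      | exact absurd (key (congrArg Subtype.val hij)).symm hxz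
      | exact absurd (key (congrArg Subtype.val hij)).symm hyz
  simpa using Nat.card_le_card_of_injective _ hinj

theorem orderOf_conj_eq (g x : G) : orderOf (g * x * g⁻¹) = orderOf x :=
  orderOf_injective (MulAut.conj g).toMonoidHom (MulAut.conj g).injective x

theorem orderOf_eq_of_isConj {x y : G} (h : IsConj x y) : orderOf x = orderOf y := by
  obtain ⟨g, rfl⟩ := isConj_iff.mp h
  exact (orderOf_conj_eq g x).symm

/-- Two primes dividing the order of a non-abelian simple group. -/
theorem exists_two_prime_orders [Finite G] {T : Subgroup G} (hs : IsSimpleGroup T)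
    (hnc : ¬ IsMulCommutative T) :
    ∃ s ∈ T, ∃ t ∈ T, (orderOf s).Prime ∧ (orderOf t).Prime ∧ orderOf s ≠ orderOf t := by
  have hc1 : Nat.card T ≠ 1 := fun h => hnc ⟨⟨fun a b => by
    haveI := (Nat.card_eq_one_iff_unique.mp h).1; exact Subsingleton.elim _ _⟩⟩
  obtain ⟨p, hp, hpd⟩ := Nat.exists_prime_and_dvd hc1
  haveI := Fact.mk hp
  obtain ⟨q, hq, hqd, hqp⟩ : ∃ q, q.Prime ∧ q ∣ Nat.card T ∧ q ≠ p := by
    by_contra hcon
    push Not at hcon
    have hpg : IsPGroup p T := IsPGroup.of_card (n := (Nat.card T).primeFactorsList.length)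
      (Nat.eq_prime_pow_of_unique_prime_dvd Nat.card_pos.ne' fun {d} hd hdd => hcon d hd hdd)
    haveI : Nontrivial T := hs.toNontrivial
    have hz := hpg.center_nontrivial
    rcases (inferInstance : (Subgroup.center T).Normal).eq_bot_or_eq_top with h | h
    · exact (Subgroup.nontrivial_iff_ne_bot _).mp hz h
    · exact hnc ⟨⟨fun a b => (Subgroup.mem_center_iff.mp (h ▸ Subgroup.mem_top b) a)⟩⟩
  haveI := Fact.mk hq
  obtain ⟨⟨s, hs'⟩, hso⟩ := exists_prime_orderOf_dvd_card' p hpd
  obtain ⟨⟨t, ht⟩, hto⟩ := exists_prime_orderOf_dvd_card' q hqd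
  rw [Subgroup.orderOf_mk] at hso hto
  exact ⟨s, hs', t, ht, hso ▸ hp, hto ▸ hq, by rw [hso, hto]; exact hqp.symm⟩

/-- With a non-abelian minimal normal subgroup and no almost simple socle there are at least
three classes of derangements. -/
theorem three_classes_of_nonabelian [Finite G] [FaithfulSMul G α] [IsPreprimitive G α] [Nonempty α]
    (hnas : ¬ ∃ T : Subgroup G, T.Normal ∧ IsSimpleGroup T ∧ ¬ IsMulCommutative T ∧
      centralizer (T : Set G) = ⊥)
    {N : Subgroup G} [hN : N.Normal] (hne : N ≠ ⊥)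
    (hmin : ∀ L : Subgroup G, L.Normal → L ≤ N → L = ⊥ ∨ L = N) (hnc : ¬ IsMulCommutative N) :
    3 ≤ Nat.card (DerClasses G α) := by
  obtain ⟨𝒯, hF⟩ := exists_factors N hne hmin hnc
  obtain ⟨T, hT⟩ := hF.nonempty
  by_cases hone : ∀ S ∈ 𝒯, S = T
  · have hTN : T = N := by
      rw [← hF.sSup_eq]
      exact le_antisymm (le_sSup hT) (sSup_le fun S hS => (hone S hS).le)
    subst hTN
    have hC : centralizer (T : Set G) ≠ ⊥ := fun h =>
      hnas ⟨T, hN, hF.simple T hT, hnc, h⟩
    have hCT : T ≤ centralizer ((centralizer (T : Set G) : Subgroup G) : Set G) :=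
      le_centralizer_iff.mp le_rfl
    obtain ⟨-, hTr⟩ := Perm.regular_of_commuting_normal (α := α) hne hC hCT
    obtain ⟨-, hCr⟩ := Perm.regular_of_commuting_normal (α := α) hC hne le_rfl
    have hdT : ∀ x ∈ T, x ≠ 1 → IsDerangement α x := fun x hx hx1 a ha =>
      hx1 (Perm.stabilizer_subgroup_eq_bot_iff.1 (hTr a) x hx ha)
    obtain ⟨⟨c, hc⟩, hc1⟩ := Subgroup.ne_bot_iff_exists_ne_one.mp hC
    obtain ⟨s, hs, t, ht, hsp, htp, hst⟩ := exists_two_prime_orders (hF.simple T hT) hnc
    have hdc : IsDerangement α c := fun a ha =>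
      hc1 (Subtype.ext (Perm.stabilizer_subgroup_eq_bot_iff.1 (hCr a) c hc ha))
    have hno : ∀ x ∈ T, ¬ IsConj x c := by
      intro x hx h
      obtain ⟨g, hg⟩ := isConj_iff.mp h
      have : c ∈ T ⊓ centralizer (T : Set G) := ⟨hg ▸ hN.conj_mem x hx g, hc⟩
      rw [hF.inf_centralizer hT, Subgroup.mem_bot] at this
      exact hc1 (Subtype.ext this)
    refine three_le_card (hdT s hs fun h => hsp.ne_one (by simp [h]))
      (hdT t ht fun h => htp.ne_one (by simp [h])) hdc
      (fun h => hst (orderOf_eq_of_isConj h)) (hno s hs) (hno t ht)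
  push Not at hone
  obtain ⟨S, hS, hST⟩ := hone
  rcases dichotomy (α := α) hF with hA | ⟨hB, hfix⟩
  · obtain ⟨s, hs, t, ht, hsp, htp, hst⟩ := exists_two_prime_orders (hF.simple T hT)
      (hF.nonabelian T hT)
    obtain ⟨g, hg⟩ := hF.exists_conj T hT S hS
    have hu : g * t * g⁻¹ ∈ S := hg ▸ conj_mem_conjSub ht
    set u := g * t * g⁻¹ with hudef
    have huo : orderOf u = orderOf t := orderOf_conj_eq g t
    have hcomm : Commute s u := hF.comm T hT S hS (Ne.symm hST) s hs u hu
    have hs1 : s ≠ 1 := fun h => hsp.ne_one (by simp [h])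
    have ht1 : t ≠ 1 := fun h => htp.ne_one (by simp [h])
    have hcop : Nat.Coprime (orderOf s) (orderOf u) :=
      huo ▸ (Nat.coprime_primes hsp htp).mpr hst
    have hord : orderOf (s * u) = orderOf s * orderOf t :=
      huo ▸ hcomm.orderOf_mul_eq_mul_orderOf_of_coprime hcop
    have hd : IsDerangement α (s * u) := by
      refine isDerangement_of_pow (k := orderOf u) ?_
      rw [hcomm.mul_pow, pow_orderOf_eq_one, mul_one]
      refine hA T hT _ (T.pow_mem hs _) fun h => ?_
      have := Nat.Coprime.eq_one_of_dvd hcop (orderOf_dvd_of_pow_eq_one h)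
      exact hsp.ne_one this
    refine three_le_card (hA T hT s hs hs1) (hA T hT t ht ht1) hd
      (fun h => hst (orderOf_eq_of_isConj h)) (fun h => ?_) (fun h => ?_)
    · have := orderOf_eq_of_isConj h
      rw [hord] at this
      exact htp.ne_one (Nat.eq_of_mul_eq_mul_left hsp.pos (by rw [mul_one]; exact this.symm))
    · have := orderOf_eq_of_isConj h
      rw [hord] at this
      exact hsp.ne_one (Nat.eq_of_mul_eq_mul_right htp.pos (by rw [one_mul]; exact this.symm))
  · obtain ⟨⟨t, ht, htd⟩, -⟩ := hB T hT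
    obtain ⟨g, hg⟩ := hF.exists_conj T hT S hS
    have hs : g * t * g⁻¹ ∈ S := hg ▸ conj_mem_conjSub ht
    set s := g * t * g⁻¹ with hsdef
    have hsd : IsDerangement α s := htd.conj g
    obtain ⟨-, r, hr, hr1, hrd⟩ := hB S hS
    have hTN := hF.le T hT
    have hSN := hF.le S hS
    have ht1 : t ≠ 1 := fun h => htd (Classical.arbitrary α) (by simp [h])
    have hs1 : s ≠ 1 := fun h => hsd (Classical.arbitrary α) (by simp [h])
    have coordT : ∀ (y : G) (hy : y ∈ S),
        hF.coord hT ⟨t * y, N.mul_mem (hTN ht) (hSN hy)⟩ = t := by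
      intro y hy
      rw [show (⟨t * y, N.mul_mem (hTN ht) (hSN hy)⟩ : N) = ⟨t, hTN ht⟩ * ⟨y, hSN hy⟩ from rfl,
        map_mul, hF.coord_self hT (n := ⟨t, hTN ht⟩) ht,
        hF.coord_of_ne hT hS (Ne.symm hST) (n := ⟨y, hSN hy⟩) hy, mul_one]
    have coordS : ∀ (y : G) (hy : y ∈ S),
        hF.coord hS ⟨t * y, N.mul_mem (hTN ht) (hSN hy)⟩ = y := by
      intro y hy
      rw [show (⟨t * y, N.mul_mem (hTN ht) (hSN hy)⟩ : N) = ⟨t, hTN ht⟩ * ⟨y, hSN hy⟩ from rfl,
        map_mul, hF.coord_self hS (n := ⟨y, hSN hy⟩) hy,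
        hF.coord_of_ne hS hT hST (n := ⟨t, hTN ht⟩) ht, one_mul]
    have hder : ∀ (y : G), y ∈ S → IsDerangement α (t * y) := fun y hy b hb => by
      have := hfix ⟨t * y, N.mul_mem (hTN ht) (hSN hy)⟩ T hT b hb
      rw [coordT y hy] at this
      exact htd b this
    have hnofac : ∀ (y : G), y ∈ S → y ≠ 1 → ¬ IsConj t (t * y) := by
      intro y hy hy1 h
      obtain ⟨k, hk⟩ := isConj_iff.mp h
      have hmem : t * y ∈ conjSub k T := hk ▸ conj_mem_conjSub ht
      have hU := hF.conj_mem T hT k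
      by_cases hUT : conjSub k T = T
      · have := hF.coord_of_ne hS hU (by rw [hUT]; exact hST)
          (n := ⟨t * y, N.mul_mem (hTN ht) (hSN hy)⟩) hmem
        rw [coordS y hy] at this
        exact hy1 this
      · have := hF.coord_of_ne hT hU (Ne.symm hUT)
          (n := ⟨t * y, N.mul_mem (hTN ht) (hSN hy)⟩) hmem
        rw [coordT y hy] at this
        exact ht1 this
    refine three_le_card htd (hder s hs) (hder r hr) (hnofac s hs hs1) (hnofac r hr hr1) ?_
    intro h
    obtain ⟨k, hk⟩ := isConj_iff.mp h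
    -- compare the coordinate at `S`
    set n : N := ⟨t * s, N.mul_mem (hTN ht) (hSN hs)⟩
    have hS' := hF.conj_mem S hS k⁻¹
    have he : conjSub k (conjSub k⁻¹ S) = S := by rw [conjSub_mul, mul_inv_cancel, conjSub_one]
    have hc := hF.coord_conj hS' k n
    rw [hF.coord_congr (hF.conj_mem _ hS' k) hS he] at hc
    have hn : (⟨k * (n : G) * k⁻¹, hN.conj_mem n n.2 k⟩ : N) =
        ⟨t * r, N.mul_mem (hTN ht) (hSN hr)⟩ := Subtype.ext hk
    rw [hn, coordS r hr] at hc
    by_cases h1 : conjSub k⁻¹ S = T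
    · rw [hF.coord_congr hS' hT h1, coordT s hs] at hc
      exact hrd (hc ▸ htd.conj k)
    by_cases h2 : conjSub k⁻¹ S = S
    · rw [hF.coord_congr hS' hS h2, coordS s hs] at hc
      exact hrd (hc ▸ hsd.conj k)
    · rw [show n = ⟨t, hTN ht⟩ * ⟨s, hSN hs⟩ from rfl, map_mul,
        hF.coord_of_ne hS' hT h1 (n := ⟨t, hTN ht⟩) ht,
        hF.coord_of_ne hS' hS h2 (n := ⟨s, hSN hs⟩) hs, one_mul, mul_one, mul_inv_cancel] at hc
      exact hr1 hc

/-- A non-trivial group contains a minimal normal subgroup. -/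
theorem exists_minimal_normal [Finite G] [Nontrivial G] :
    ∃ N : Subgroup G, N.Normal ∧ N ≠ ⊥ ∧
      ∀ L : Subgroup G, L.Normal → L ≤ N → L = ⊥ ∨ L = N := by
  obtain ⟨N, ⟨hN, hne⟩, hmin⟩ := (wellFounded_lt (α := Subgroup G)).has_min
    {M : Subgroup G | M.Normal ∧ M ≠ ⊥} ⟨⊤, inferInstance, top_ne_bot⟩
  refine ⟨N, hN, hne, fun L hL hle => ?_⟩
  by_contra h
  rw [not_or] at h
  exact hmin L ⟨hL, h.1⟩ (lt_of_le_of_ne hle h.2)

/-- A transitive group in which non-trivial elements fix at most one point has `n - 1`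
derangements. -/
theorem card_derangements [Finite G] [Finite α] [IsPretransitive G α] [Nonempty α]
    (h : ∀ g : G, g ≠ 1 → Nat.card (fixedBy α g) ≤ 1) (hα : 2 ≤ Nat.card α) :
    Nat.card {g : G // IsDerangement α g} = Nat.card α - 1 := by
  classical
  haveI := Fintype.ofFinite G
  haveI := Fintype.ofFinite α
  haveI : Fintype (orbitRel.Quotient G α) := Fintype.ofFinite _
  have h1 : Fintype.card (orbitRel.Quotient G α) = 1 := by
    refine Fintype.card_eq_one_iff.mpr ⟨Quotient.mk'' (Classical.arbitrary α), fun q => ?_⟩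
    induction q using Quotient.inductionOn' with
    | h x => exact Quotient.sound' (exists_smul_eq G (Classical.arbitrary α) x)
  have hb := sum_card_fixedBy_eq_card_orbits_mul_card_group G α
  rw [h1, one_mul] at hb
  have e : ∀ g : G, Fintype.card (fixedBy α g) + (if IsDerangement α g then 1 else 0) =
      1 + (if g = 1 then Nat.card α - 1 else 0) := by
    intro g
    by_cases hg : g = 1
    · subst hg
      rw [if_pos rfl, if_neg (fun hd : IsDerangement α (1 : G) =>
        hd (Classical.arbitrary α) (one_smul G _))]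
      have : Fintype.card (fixedBy α (1 : G)) = Nat.card α := by
        rw [Nat.card_eq_fintype_card]
        exact Fintype.card_congr ((Equiv.setCongr (Set.eq_univ_of_forall fun x => one_smul G x)).trans
          (Equiv.Set.univ α))
      omega
    · rw [if_neg hg, Nat.add_zero]
      have hle : Fintype.card (fixedBy α g) ≤ 1 := Nat.card_eq_fintype_card (α := fixedBy α g) ▸ h g hg
      by_cases hd : IsDerangement α g
      · rw [if_pos hd]
        have : Fintype.card (fixedBy α g) = 0 :=
          Fintype.card_eq_zero_iff.mpr ⟨fun x => hd x.1 x.2⟩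
        omega
      · rw [if_neg hd]
        simp only [IsDerangement, not_forall, not_not] at hd
        obtain ⟨a, ha⟩ := hd
        have : 0 < Fintype.card (fixedBy α g) := Fintype.card_pos_iff.mpr ⟨⟨a, ha⟩⟩
        omega
  have := Finset.sum_congr (rfl : (Finset.univ : Finset G) = _) (fun g _ => e g)
  simp only [Finset.sum_add_distrib, Finset.sum_const, Finset.card_univ, smul_eq_mul, mul_one,
    Finset.sum_boole, Nat.cast_id, Finset.sum_ite_eq', Finset.mem_univ, if_true, hb] at this
  rw [Nat.card_eq_fintype_card, Fintype.card_subtype]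
  omega

/-- The statement "no two points are fixed by a non-trivial element". -/
theorem fixedBy_le_one_iff [Finite α] :
    (∀ g : G, g ≠ 1 → Nat.card (fixedBy α g) ≤ 1) ↔
      ∀ g : G, g ≠ 1 → ∀ a b : α, a ≠ b → g • a = a → g • b ≠ b := by
  constructor
  · intro h g hg a b hab ha hb
    haveI := Finite.card_le_one_iff_subsingleton.mp (h g hg)
    exact hab (congrArg Subtype.val (Subsingleton.elim (⟨a, ha⟩ : fixedBy α g) ⟨b, hb⟩))
  · intro h g hg
    refine Finite.card_le_one_iff_subsingleton.mpr ⟨fun x y => Subtype.ext ?_⟩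
    by_contra hxy
    exact h g hg x y hxy x.2 y.2

/-- In the affine case: a non-trivial element with two fixed points gives a derangement outside
the regular normal subgroup. -/
theorem exists_derangement_not_mem {N : Subgroup G} [hN : N.Normal] [Finite G]
    [IsMulCommutative N] [IsPretransitive N α] (hreg : ∀ a : α, stabilizer N a = ⊥)
    {g : G} (hg : g ≠ 1) {a b : α} (hab : a ≠ b) (ha : g • a = a) (hb : g • b = b) :
    ∃ d : G, IsDerangement α d ∧ d ∉ N := by
  obtain ⟨m, hm, rfl⟩ := Perm.isPretransitive_subgroup_iff.1 ‹IsPretransitive N α› a b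
  have hgN : g ∉ N := fun h => hg (Perm.stabilizer_subgroup_eq_bot_iff.1 (hreg a) g h ha)
  let f : N → N := fun x => ⟨x * g * (x : G)⁻¹ * g⁻¹, by
    have := N.mul_mem x.2 (hN.conj_mem _ (N.inv_mem x.2) g)
    simpa [mul_assoc] using this⟩
  have hnot : ¬ Function.Surjective f := fun hs => by
    have hinj := Finite.injective_iff_surjective.mpr hs
    have hc := (Perm.commute_iff_fixes (hreg a) ha hm).mpr hb
    have h1 : f ⟨m, hm⟩ = f 1 := Subtype.ext (by
      show m * g * m⁻¹ * g⁻¹ = (1 : G) * g * (1 : G)⁻¹ * g⁻¹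
      rw [← hc]; group)
    exact hab (by rw [show m = 1 from congrArg Subtype.val (hinj h1), one_smul])
  simp only [Function.Surjective, not_forall, not_exists] at hnot
  obtain ⟨n, hn⟩ := hnot
  refine ⟨n * g, fun c hc => ?_, fun h => hgN (by simpa using N.mul_mem (N.inv_mem n.2) h)⟩
  obtain ⟨x, hx, rfl⟩ := Perm.isPretransitive_subgroup_iff.1 ‹IsPretransitive N α› a c
  refine hn ⟨x, hx⟩ (Subtype.ext ?_)
  show x * g * x⁻¹ * g⁻¹ = n
  have h2 : ((n : G) * g * x * g⁻¹) • a = x • a := by
    rw [mul_smul _ g⁻¹, inv_smul_eq_iff.mpr ha.symm, mul_smul]; exact hc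
  have h3 := Perm.eq_of_smul_eq (hreg a) (by
    have := N.mul_mem n.2 (hN.conj_mem x hx g)
    simpa [mul_assoc] using this) hx h2
  have hcomm := congrArg Subtype.val (mul_comm' (⟨x, hx⟩ : N) ⟨g * x⁻¹ * g⁻¹, hN.conj_mem _ (N.inv_mem hx) g⟩)
  calc x * g * x⁻¹ * g⁻¹ = x * (g * x⁻¹ * g⁻¹) := by group
    _ = (g * x⁻¹ * g⁻¹) * x := hcomm
    _ = (g * x⁻¹ * g⁻¹) * ((n : G) * g * x * g⁻¹) := by rw [h3]
    _ = (g * x⁻¹ * g⁻¹) * ((n : G) * (g * x * g⁻¹)) := by group
    _ = (g * x⁻¹ * g⁻¹) * ((g * x * g⁻¹) * n) := by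
        have hcomm' := congrArg Subtype.val (mul_comm' n (⟨g * x * g⁻¹, hN.conj_mem _ hx g⟩ : N))
        simp only [Subgroup.coe_mul] at hcomm'
        rw [hcomm']
    _ = n := by group

end Cfsg.Agent.Socle
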